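import Groth.Agent.KFlatLib.Scheme.CohD
import Groth.Agent.KFlatLib.Scheme.PullTensorCx
import Groth.Agent.KFlatLib.Scheme.QCohDerived
import Groth.Agent.KFlatLib.Scheme.TildeD
import Groth.Agent.KFlatLib.Perfect.Tensor
import Groth.Agent.KFlatLib.Ring.Resolution
import Groth.Agent.KFlatLib.Scheme.Tilde
import Groth.Agent.Lib.CurveDeg
import Groth.Agent.S6942

/-! The derived tensor product of bounded above objects with coherent cohomology has coherent cohomology. -/

set_option autoImplicit false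
set_option linter.style.haveILetI false
set_option backward.isDefEq.respectTransparency false
set_option backward.isDefEq.respectTransparency.types false

universe u

open CategoryTheory CategoryTheory.Limits AlgebraicGeometry MonoidalCategory

attribute [local instance] HasDerivedCategory.standard

namespace Groth.Agent.H9LTCoh

open Groth.Agent.KFlatLib

variable {X : Scheme.{u}}

theorem isCoh_homology_of_terms [IsLocallyNoetherian X] (K : CochainComplex X.Modules ℤ)
    (h : ∀ i, Coh.IsCoh (K.X i)) (i : ℤ) : Coh.IsCoh (K.homology i) := by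
  have hq : Coh.IsQCoh (K.cycles i) :=
    isQCoh_of_iso ((limit.isLimit _).conePointUniqueUpToIso (K.cyclesIsKernel i (i + 1) (by simp)))
      (QCoh.isQCoh_kernel (h i).1 (h (i + 1)).1 (K.d i (i + 1)))
  exact QCoh.isCoh_of_epi (K.homologyπ i) (QCoh.isCoh_of_mono (K.iCycles i) (h i) hq)
    (isQCoh_homology_of_terms K (fun j => (h j).1) i)

/-- The tensor product of isomorphic K-flat objects. -/
theorem nonempty_tensor_iso {A A' B B' : CochainComplex X.Modules ℤ} (hA' : DCoh.IsKFlat A')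
    (hA : DCoh.IsKFlat A) (hB : DCoh.IsKFlat B) (hB' : DCoh.IsKFlat B')
    (eA : DerivedCategory.Q.obj A ≅ DerivedCategory.Q.obj A') (eB : DerivedCategory.Q.obj B ≅ DerivedCategory.Q.obj B') :
    Nonempty (DerivedCategory.Q.obj ((DCoh.tensorCx.obj A).obj B) ≅
      DerivedCategory.Q.obj ((DCoh.tensorCx.obj A').obj B')) := by
  haveI := hasLTensorCx B
  haveI := hasLTensorCx A'
  let σ : ∀ K L : CochainComplex X.Modules ℤ, (DCoh.tensorCx.obj L).obj K ≅ (DCoh.tensorCx.obj K).obj L :=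
    fun K L => (symmIso (tensorBiFlipIso X) K).app L
  exact ⟨(ltensorCxIso B hA).symm ≪≫ (DCoh.LTensorCx B).mapIso eA ≪≫ ltensorCxIso B hA' ≪≫
    DerivedCategory.Q.mapIso (σ B A') ≪≫
    (ltensorCxIso A' hB).symm ≪≫ (DCoh.LTensorCx A').mapIso eB ≪≫ ltensorCxIso A' hB' ≪≫
    DerivedCategory.Q.mapIso (σ A' B')⟩

/-- On an affine Noetherian scheme, bounded above coherent objects are tilde of bounded above finite free complexes. -/
theorem exists_freeRep {R : CommRingCat.{u}} [IsNoetherianRing R] [IsLocallyNoetherian (Spec R)]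
    {K : DCoh.D (Spec R)} (hK : DCoh.IsCohD K) (b : ℤ) (hb : ∀ i, b < i → IsZero (DCoh.HD K i)) :
    ∃ T : CochainComplex (Spec R).Modules ℤ, (∃ c : ℤ, ∀ i, c < i → IsZero (T.X i)) ∧ DCoh.IsKFlat T ∧
      (∀ i, FlatMod.IsFinLocFree (T.X i)) ∧ Nonempty (DerivedCategory.Q.obj T ≅ K) := by
  obtain ⟨M, ⟨eM⟩⟩ := exists_tildeD_iso (isCohD_isQCohD hK)
  let eH : ∀ i, (tilde.functor R).obj ((DerivedCategory.homologyFunctor (ModuleCat.{u} R) i).obj M) ≅ DCoh.HD K i :=
    fun i => ((mapDCHomologyIso (tilde.functor R) i).app M).symm ≪≫ (DerivedCategory.homologyFunctor _ i).mapIso eM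
  have hpc : DRing.IsPseudoCoherent' R M := by
    refine (H9Misc.DRingPC.pc'_iff _).2 fun m => (S6942.result R m M PUnit).1.2 ⟨⟨b, fun i hi => ?_⟩, fun i _ => ?_⟩
    · refine ModuleCat.subsingleton_of_isZero ((IsZero.iff_id_eq_zero _).2
        ((tilde.functor R).map_injective (IsZero.eq_of_src ?_ _ _)))
      exact (hb i hi).of_iso (eH i)
    · exact (isCoh_tilde_iff _).1 (isCoh_of_iso (eH i).symm (hK i))
  obtain ⟨P, c, hc, hf, ⟨eP⟩⟩ := hpc
  haveI : P.IsStrictlyLE c := (CochainComplex.isStrictlyLE_iff _ _).2 hc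
  have hP : KFlat (curriedTensor (ModuleCat.{u} R)) P :=
    kFlat_of_isStrictlyLE c fun n => flatObj_ringCover _ (by
      haveI := (hf n).2
      exact Module.Flat.of_free)
  refine ⟨_, ⟨c, fun i hi => (tilde.functor R).map_isZero (hc i hi)⟩, isKFlat_tilde P hP,
    fun i => isFinLocFree_tilde_of_free (hf i), ⟨(tildeQ P).symm ≪≫ (DCoh.tildeD R).mapIso eP ≪≫ eM⟩⟩

theorem isCoh_tensorCx_X [IsLocallyNoetherian X] {E F : CochainComplex X.Modules ℤ} (a b : ℤ)
    (hE : ∀ i, a < i → IsZero (E.X i)) (hF : ∀ i, b < i → IsZero (F.X i))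
    (hEf : ∀ i, FlatMod.IsFinLocFree (E.X i)) (hFf : ∀ i, FlatMod.IsFinLocFree (F.X i)) (n : ℤ) :
    Coh.IsCoh (((DCoh.tensorCx.obj E).obj F).X n) := by
  refine CurveDeg.isCoh_of_isFinLocFree ?_
  refine isFinLocFree_sigma
    (ι := ↥((ComplexShape.π (ComplexShape.up ℤ) (ComplexShape.up ℤ) (ComplexShape.up ℤ)) ⁻¹' {n}))
    (fun i => (DCoh.tensorBi.obj (E.X i.1.1)).obj (F.X i.1.2))
    ((Finset.Icc (n - b) a).image fun p => ⟨(p, n - p), show p + (n - p) = n by omega⟩)
    (fun i hi => ?_) fun i => isFinLocFree_tensor (hEf _) (hFf _)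
  have hn := i.2
  change i.1.1 + i.1.2 = n at hn
  rcases lt_or_ge a i.1.1 with h | h
  · exact (DCoh.tensorBi.flip.obj (F.X i.1.2)).map_isZero (hE _ h)
  rcases lt_or_ge b i.1.2 with h' | h'
  · exact (DCoh.tensorBi.obj (E.X i.1.1)).map_isZero (hF _ h')
  refine absurd (Finset.mem_image.2 ⟨i.1.1, Finset.mem_Icc.2 ⟨by omega, h⟩, ?_⟩) hi
  exact Subtype.ext (Prod.ext rfl (show n - i.1.1 = i.1.2 by omega))

theorem main [IsLocallyNoetherian X] (E : CochainComplex X.Modules ℤ) [DCoh.HasLTensorCx E] (L : DCoh.D X)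
    (hL : DCoh.IsCohD L) (hLb : ∃ a : ℤ, ∀ i, a < i → IsZero (DCoh.HD L i)) (hE : DCoh.IsCohD (DCoh.toD X E))
    (hEb : ∃ b : ℤ, ∀ i, b < i → IsZero (DCoh.HD (DCoh.toD X E) i)) :
    DCoh.IsCohD ((DCoh.LTensorCx E).obj L) ∧ ∃ n : ℤ, ∀ i, n < i → IsZero (DCoh.HD ((DCoh.LTensorCx E).obj L) i) := by
  obtain ⟨a, ha⟩ := hLb
  obtain ⟨b, hb⟩ := hEb
  let L₀ := DerivedCategory.Q.objPreimage L
  haveI : L₀.IsLE a := by
    rw [CochainComplex.isLE_iff]
    intro i hi
    rw [HomologicalComplex.exactAt_iff_isZero_homology]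
    exact (ha i hi).of_iso (((DerivedCategory.homologyFunctorFactors X.Modules i).app L₀).symm ≪≫
      (DerivedCategory.homologyFunctor X.Modules i).mapIso (repIso L))
  haveI : E.IsLE b := by
    rw [CochainComplex.isLE_iff]
    intro i hi
    rw [HomologicalComplex.exactAt_iff_isZero_homology]
    exact (hb i hi).of_iso ((DerivedCategory.homologyFunctorFactors X.Modules i).app E).symm
  obtain ⟨R, ρ, hρ, hRle, hR⟩ := exists_flat_rep L₀ a
  obtain ⟨E', σ, hσ, hEle, hE'⟩ := exists_flat_rep E b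
  haveI := hρ
  haveI := hσ
  haveI := hRle
  haveI := hEle
  haveI := isIso_Q_map ρ inferInstance
  haveI := isIso_Q_map σ inferInstance
  let eL : DerivedCategory.Q.obj R ≅ L := asIso (DerivedCategory.Q.map ρ) ≪≫ repIso L
  let eE : DerivedCategory.Q.obj E' ≅ DerivedCategory.Q.obj E := asIso (DerivedCategory.Q.map σ)
  let M := (DCoh.tensorCx.obj R).obj E'
  haveI : QuasiIso ((DCoh.tensorCx.obj R).map σ) := KFlat.quasiIso_map' (tensorBiFlipIso X) hR σ
  haveI := isIso_Q_map ((DCoh.tensorCx.obj R).map σ) inferInstance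
  let e : (DCoh.LTensorCx E).obj L ≅ DerivedCategory.Q.obj M :=
    (DCoh.LTensorCx E).mapIso eL.symm ≪≫ ltensorCxIso E hR ≪≫
      (asIso (DerivedCategory.Q.map ((DCoh.tensorCx.obj R).map σ))).symm
  refine ⟨isCohD_of_iso e.symm fun i => ?_, a + b, fun i hi => ?_⟩
  · refine isCoh_of_iso ((DerivedCategory.homologyFunctorFactors X.Modules i).app M).symm (isCoh_of_local fun x => ?_)
    obtain ⟨S, hS, j, hj, hx⟩ := exists_chart x
    haveI : IsLocallyNoetherian (Spec S) := isLocallyNoetherian_of_isOpenImmersion j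
    let r := rCx j
    let η : ∀ K : CochainComplex X.Modules ℤ, (rho j).obj (DerivedCategory.Q.obj K) ≅ DerivedCategory.Q.obj (r.obj K) :=
      fun K => (rhoQ j).app K
    have hz : ∀ {K : DCoh.D X} (k : ℤ), IsZero (DCoh.HD K k) → IsZero (DCoh.HD ((rho j).obj K) k) := fun k hk =>
      ((Scheme.Modules.restrictFunctor j).map_isZero hk).of_iso (restrictHDIso j _ k)
    obtain ⟨T', ⟨c', hc'⟩, hT', hT'f, ⟨eT'⟩⟩ := exists_freeRep (isCohD_rho j hL) a fun k hk => hz k (ha k hk)
    obtain ⟨T, ⟨c, hc⟩, hT, hTf, ⟨eT⟩⟩ := exists_freeRep (isCohD_rho j hE) b fun k hk => hz k (hb k hk)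
    let φ := restrictPullCxIso j
    obtain ⟨e'⟩ := nonempty_tensor_iso hT' (isKFlat_restrict j hR) (isKFlat_restrict j hE') hT
      ((η R).symm ≪≫ (rho j).mapIso eL ≪≫ eT'.symm) ((η E').symm ≪≫ (rho j).mapIso eE ≪≫ eT.symm)
    refine ⟨_, j, hj, hx, isCoh_of_iso (((DerivedCategory.homologyFunctorFactors _ i).app _).symm ≪≫
      ((DerivedCategory.homologyFunctor _ i).mapIso e').symm ≪≫
      (DerivedCategory.homologyFunctorFactors _ i).app _ ≪≫
      (HomologicalComplex.homologyFunctor _ _ i).mapIso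
        ((DCoh.tensorCx.mapIso (φ.app R)).app (r.obj E') ≪≫
          (DCoh.tensorCx.obj ((pullCx j).obj R)).mapIso (φ.app E') ≪≫
          pullTensorCxIso j R E' ≪≫ (φ.app M).symm) ≪≫
        (M.sc i).mapHomologyIso (Scheme.Modules.restrictFunctor j))
      (isCoh_homology_of_terms _ (isCoh_tensorCx_X c' c hc' hc hT'f hTf) i)⟩
  · refine IsZero.of_iso ?_ ((DerivedCategory.homologyFunctor X.Modules i).mapIso e ≪≫
      (DerivedCategory.homologyFunctorFactors X.Modules i).app M)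
    exact ShortComplex.isZero_homology_of_isZero_X₂ _ (isZero_tensorCx_X R E' a b i hi)

end Groth.Agent.H9LTCoh
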